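import Mathlib
import Cfsg.Prelude.Def_OddOrderLocal
import Cfsg.Agent.Lib.Helper34.BG10d
import Cfsg.Agent.Lib.Helper55.BGHall
import Cfsg.Agent.Lib.Helper62.PiCore
import Cfsg.Agent.Lib.Helper24.NonCyclic
import Cfsg.Agent.Lib.Helper76.EqOrd1
import Cfsg.Agent.Lib.Helper82.BG95R3
import Cfsg.Agent.Lib.Helper79.BG10.Sigma

/-!
# `F(M) = F(M_σ) × O_{σ(M)'}(F(M))` with the second factor a cyclic `τ₂(M)`-group

Consequence of B-G Theorem 12.5 (statement S1417, taken as the hypothesis `H125`), the Uniqueness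
Theorem (as `UniqHyp`) and `M_σ` being a Hall subgroup of `M` (S1350).
-/

set_option autoImplicit false
open Pointwise

namespace Cfsg.Agent.Helper95.BG15.FitSigma

open Subgroup Cfsg

variable {G : Type*} [Group G]

/-- `O_p(M)` as a subgroup of `G`. -/
def Op (M : Subgroup G) (p : ℕ) : Subgroup G := (Cfsg.pCore p ↥M).map M.subtype

theorem Op_le (M : Subgroup G) (p : ℕ) : Op M p ≤ M := map_subtype_le _

theorem Op_norm (M : Subgroup G) (p : ℕ) : M ≤ normalizer ((Op M p : Subgroup G) : Set G) := by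
  haveI : (Cfsg.pCore p ↥M).Normal := Subgroup.sSup_normal _ (fun _ h => h.1)
  exact Cfsg.Agent.Helper55.BGB.le_normalizer_map_subtype M (Cfsg.pCore p ↥M)

/-- the parts of the statement of S1417 (B-G Theorem 12.5) that are used here -/
def H125 (M : Subgroup G) : Prop :=
  ∀ (p : ℕ) [Fact p.Prime], p ∈ Cfsg.tau2 M → ∀ A : Subgroup G,
    (A ≤ M ∧ Cfsg.IsElementaryAbelian p A ∧ Nat.card A = p ^ 2) →
    (∀ P : Sylow p M, IsMulCommutative (P : Subgroup M) ∧
        (A ≤ (P : Subgroup M).map M.subtype →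
          (∀ x ∈ (P : Subgroup M).map M.subtype, x ^ p = 1 ↔ x ∈ A))) ∧
      Cfsg.sigmaCore M ⊓ Subgroup.centralizer (A : Set G) = ⊥

theorem isNilpotent_map_subtype {H : Subgroup G} (K : Subgroup ↥H) (hK : Group.IsNilpotent ↥K) :
    Group.IsNilpotent ↥(K.map H.subtype) :=
  (Group.isNilpotent_congr (K.equivMapOfInjective H.subtype H.subtype_injective)).mp hK

section fin

variable [Finite G]

theorem Op_isPGroup (M : Subgroup G) (p : ℕ) [Fact p.Prime] : IsPGroup p (Op M p) :=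
  (Cfsg.Agent.Helper62.isPGroup_pCore (G := ↥M) (p := p)).map M.subtype

theorem Op_le_fittingOf (M : Subgroup G) (p : ℕ) [Fact p.Prime] : Op M p ≤ Cfsg.fittingOf M :=
  Subgroup.map_mono Cfsg.Agent.Helper62.pCore_le_fitting

theorem fittingOf_eq_iSup (M : Subgroup G) :
    Cfsg.fittingOf M = ⨆ p : {p : ℕ // p.Prime}, Op M (p : ℕ) := by
  unfold Cfsg.fittingOf Op
  rw [Cfsg.Agent.Helper22.fittingSubgroup_eq_iSup_pCore, Subgroup.map_iSup]

theorem mem_Op_of_mem_fittingOf (M : Subgroup G) (p : ℕ) [Fact p.Prime] {x : G}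
    (hx : x ∈ Cfsg.fittingOf M) {j : ℕ} (hxj : x ^ (p ^ j) = 1) : x ∈ Op M p := by
  obtain ⟨y, hy, rfl⟩ := hx
  refine ⟨y, Cfsg.Agent.Helper79.BG10.mem_pCore_of_mem_fitting_of_pow p hy (j := j) ?_, rfl⟩
  apply Subtype.ext
  simpa using hxj

theorem isNilpotent_fittingOf (M : Subgroup G) : Group.IsNilpotent ↥(Cfsg.fittingOf M) :=
  isNilpotent_map_subtype _ Cfsg.Agent.Helper22.isNilpotent_fittingSubgroup

/-- a nilpotent subgroup normal in a normal subgroup `X` of `H` lies in `F(H)`. -/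
theorem le_fittingOf_of_normal {H X N : Subgroup G} (hXH : X ≤ H)
    (hX : H ≤ normalizer (X : Set G)) (hNX : N ≤ X) (hN : X ≤ normalizer (N : Set G))
    (hnil : Group.IsNilpotent ↥N) : N ≤ Cfsg.fittingOf H := by
  have hKn : (X.subgroupOf H).Normal := Subgroup.normal_subgroupOf_of_le_normalizer hX
  have hNH : N ≤ H := hNX.trans hXH
  have hnil' : Group.IsNilpotent ↥(N.subgroupOf H) :=
    (Group.isNilpotent_congr (Subgroup.subgroupOfEquivOfLe hNH)).mpr hnil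
  have hle : N.subgroupOf H ≤ X.subgroupOf H := Subgroup.comap_mono hNX
  have hnorm : X.subgroupOf H ≤ normalizer ((N.subgroupOf H : Subgroup ↥H) : Set ↥H) := by
    intro k hk
    have hk' : (k : G) ∈ normalizer (N : Set G) := hN (Subgroup.mem_subgroupOf.mp hk)
    rw [Subgroup.mem_normalizer_iff] at hk' ⊢
    intro h
    simp only [Subgroup.mem_subgroupOf]
    have := hk' (h : G)
    simpa using this
  have h1 := Cfsg.Agent.Helper22.nilpotent_le_fittingSubgroup (Subgroup.Normal.isSubnormal hKn)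
    hle hnorm hnil'
  intro x hx
  exact ⟨⟨x, hNH hx⟩, h1 (Subgroup.mem_subgroupOf.mpr hx), rfl⟩

omit [Finite G] in
theorem card_mul_relIndex' {A M : Subgroup G} (h : A ≤ M) :
    Nat.card A * A.relIndex M = Nat.card M := by
  have := Subgroup.card_mul_index (A.subgroupOf M)
  rw [Cfsg.Agent.Helper34.BG.card_subgroupOf_of_le h] at this
  exact this

omit [Finite G] in
theorem normalizer_eq_of_coatom (hG : IsMinSimpleOddOrder G) {M D : Subgroup G} (hM : IsCoatom M)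
    (hDM : D ≤ M) (hD : D ≠ ⊥) (hn : M ≤ normalizer (D : Set G)) :
    normalizer (D : Set G) = M := by
  have hDt : D ≠ ⊤ := Cfsg.Agent.Helper34.BG.ne_top_of_le_coatom hM hDM
  have hNt := Cfsg.Agent.Helper34.BG.normalizer_ne_top hG hD hDt
  by_contra hne
  exact hNt (hM.2 _ (lt_of_le_of_ne hn (Ne.symm hne)))

/-- `σ(M)` is not empty. -/
theorem exists_mem_sigma (hG : IsMinSimpleOddOrder G) (hU : Cfsg.Agent.Helper34.BG.UniqHyp G)
    {M : Subgroup G} (hM : IsCoatom M) : ∃ q, q ∈ Cfsg.sigma M := by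
  by_cases hr : Cfsg.RankLE 2 ↥(Cfsg.fittingSubgroup ↥M)
  · haveI : Group.IsSolvable ↥M := Cfsg.Agent.Helper34.BG.solvable_of_ne_top hG hM.1
    haveI : Nontrivial ↥M :=
      (Subgroup.nontrivial_iff_ne_bot M).mpr (Cfsg.Agent.Helper34.BG.coatom_ne_bot hG hM)
    obtain ⟨q, hq, hqd, -, Q, hQn⟩ := Cfsg.Agent.Helper82.BG95R3.r3 (X := ↥M)
      (Cfsg.Agent.Helper34.BG.odd_card_subgroup hG M) hr
    refine ⟨q, hq, hqd, Q, ?_⟩
    haveI := Fact.mk hq
    have hn : M ≤ normalizer ((((Q : Subgroup ↥M).map M.subtype : Subgroup G)) : Set G) :=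
      Cfsg.Agent.Helper55.BGB.le_normalizer_map_subtype M (Q : Subgroup ↥M)
    have hne : (Q : Subgroup ↥M).map M.subtype ≠ ⊥ := by
      intro h
      have h1 : (Q : Subgroup ↥M) = ⊥ :=
        (Subgroup.map_eq_bot_iff_of_injective _ M.subtype_injective).mp h
      exact Q.ne_bot_of_dvd_card hqd h1
    exact (normalizer_eq_of_coatom hG hM (map_subtype_le _) hne hn).le
  · unfold Cfsg.RankLE at hr
    push_neg at hr
    obtain ⟨p, hp, hpr⟩ := hr
    have h2 : ¬ PRankLE p 2 ↥M := fun h => hpr (Cfsg.Agent.Helper34.BG.pRankLE_subgroup_type h _)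
    exact ⟨p, Cfsg.Agent.Helper34.BG.alpha_subset_sigma hG hU hM ⟨hp, h2⟩⟩

/-- `M_σ ≠ 1`. -/
theorem sigmaCore_ne_bot (hG : IsMinSimpleOddOrder G) (hU : Cfsg.Agent.Helper34.BG.UniqHyp G)
    {M : Subgroup G} (hM : IsCoatom M)
    (hHall : Cfsg.IsPiHallOf (Cfsg.sigma M) (Cfsg.sigmaCore M) M) : Cfsg.sigmaCore M ≠ ⊥ := by
  obtain ⟨q, hq⟩ := exists_mem_sigma hG hU hM
  intro h
  have h1 := card_mul_relIndex' hHall.1
  have h2 : Nat.card ↥(Cfsg.sigmaCore M) = 1 := by rw [h]; exact Subgroup.card_bot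
  rw [h2, one_mul] at h1
  exact hHall.2.2 q hq.1 hq (by rw [h1]; exact hq.2.1)

/-- a prime `p ∉ σ(M)` with `O_p(M) ≠ 1` lies in `τ₂(M)`. -/
theorem mem_tau2_of_Op_ne_bot (hG : IsMinSimpleOddOrder G)
    (hU : Cfsg.Agent.Helper34.BG.UniqHyp G) {M : Subgroup G} (hM : IsCoatom M) {p : ℕ}
    [hp : Fact p.Prime] (hσ : p ∉ Cfsg.sigma M) (hne : Op M p ≠ ⊥) : p ∈ Cfsg.tau2 M := by
  have hOpM := Op_le M p
  have hN : normalizer ((Op M p : Subgroup G) : Set G) = M :=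
    normalizer_eq_of_coatom hG hM hOpM hne (Op_norm M p)
  have hpg := Op_isPGroup M p
  have hpM : p ∣ Nat.card M := by
    obtain ⟨k, hk⟩ := IsPGroup.iff_card.mp hpg
    have hk0 : k ≠ 0 := by
      rintro rfl
      rw [pow_zero] at hk
      exact hne (Subgroup.card_eq_one.mp hk)
    have : p ∣ Nat.card (Op M p) := by rw [hk]; exact dvd_pow_self p hk0
    exact this.trans (Subgroup.card_dvd_of_le hOpM)
  obtain ⟨T, hT, hOpT⟩ := Cfsg.Agent.Helper33.exists_isSylIn_ge hpg hOpM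
  have hNT := Cfsg.Agent.Helper34.BG.not_normalizer_le_of_not_mem_sigma hT hpM hσ
  refine ⟨hp.out, hσ, ?_, ?_⟩
  · by_contra h
    exact hσ (Cfsg.Agent.Helper34.BG.alpha_subset_sigma hG hU hM ⟨hp.out, h⟩)
  · intro h1
    have hT1 : PRankLE p 1 ↥T := Cfsg.Agent.Helper34.BG.pRankLE_mono hT.le h1
    have hp2 : p ≠ 2 := Cfsg.Agent.Helper34.BG.prime_ne_two hG M hpM
    haveI hcyc : IsCyclic ↥T :=
      Cfsg.Agent.Helper34.BG.isCyclic_of_pRankLE_one hp2 hT.isPGroup hT1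
    apply hNT
    intro g hg
    rw [← hN, Cfsg.Agent.Helper33.mem_normalizer_iff_smul_eq]
    have hgT : MulAut.conj g • T = T := Cfsg.Agent.Helper33.smul_eq_of_mem_normalizer hg
    have h2 : MulAut.conj g • Op M p ≤ T := by
      have := Cfsg.Agent.Helper33.conj_smul_le_conj_smul (g := g) hOpT
      rwa [hgT] at this
    exact Cfsg.Agent.Helper76.EqOrd.eq_of_card_eq_of_le_isCyclic T _ _ h2 hOpT
      (Cfsg.Agent.Helper33.card_conj_smul g _)

/-- for `p ∈ τ₂(M)`, `O_p(M)` is cyclic (B-G 12.5 (b), (d) and `M_σ ≠ 1`). -/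
theorem isCyclic_Op (hG : IsMinSimpleOddOrder G) (hU : Cfsg.Agent.Helper34.BG.UniqHyp G)
    {M : Subgroup G} (hM : IsCoatom M)
    (hHall : Cfsg.IsPiHallOf (Cfsg.sigma M) (Cfsg.sigmaCore M) M) (h125 : H125 M) {p : ℕ}
    [hp : Fact p.Prime] (hτ : p ∈ Cfsg.tau2 M) : IsCyclic ↥(Op M p) := by
  have hσ : p ∉ Cfsg.sigma M := hτ.2.1
  obtain ⟨E, hEM, hE, hEc⟩ := Cfsg.Agent.Helper34.BG.exists_elemAb_of_not_pRankLE hτ.2.2.2
  obtain ⟨A, hAE, hA, hAc⟩ := Cfsg.Agent.Helper34.BG.exists_elemAb_card_eq hE hEc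
  have hAM : A ≤ M := hAE.trans hEM
  have hAc2 : Nat.card A = p ^ 2 := hAc
  obtain ⟨hb, hd⟩ := h125 p hτ A ⟨hAM, hA, hAc2⟩
  obtain ⟨T, hT, hAT⟩ := Cfsg.Agent.Helper33.exists_isSylIn_ge
    (Cfsg.Agent.Helper34.BG.isElementaryAbelian_isPGroup hA) hAM
  have hmap : ((hT.toSylow : Sylow p ↥M) : Subgroup ↥M).map M.subtype = T := by
    rw [hT.coe_toSylow]; exact Subgroup.map_subgroupOf_eq_of_le hT.le
  obtain ⟨hcomm, hΩ'⟩ := hb hT.toSylow
  rw [hmap] at hΩ'
  have hΩ := hΩ' hAT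
  have hTc : ∀ x ∈ T, ∀ y ∈ T, x * y = y * x := by
    intro x hx y hy
    have hx' : (⟨x, hT.le hx⟩ : ↥M) ∈ (hT.toSylow : Subgroup ↥M) := by
      rw [hT.coe_toSylow]; exact Subgroup.mem_subgroupOf.mpr hx
    have hy' : (⟨y, hT.le hy⟩ : ↥M) ∈ (hT.toSylow : Subgroup ↥M) := by
      rw [hT.coe_toSylow]; exact Subgroup.mem_subgroupOf.mpr hy
    have := hcomm.is_comm.comm ⟨_, hx'⟩ ⟨_, hy'⟩
    have h2 := congrArg (fun t : ↥(hT.toSylow : Subgroup ↥M) => ((t : ↥M) : G)) this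
    simpa using h2
  have hOpT : Op M p ≤ T := by
    obtain ⟨x, hx, hle⟩ := hT.exists_conj_le (Op_isPGroup M p) (Op_le M p)
    rwa [Cfsg.Agent.Helper33.smul_eq_of_mem_normalizer (Op_norm M p hx)] at hle
  by_contra hnc
  haveI : IsMulCommutative ↥(Op M p) :=
    ⟨⟨fun a b => Subtype.ext (hTc a.1 (hOpT a.2) b.1 (hOpT b.2))⟩⟩
  obtain ⟨q, B, hq, hBO, hBq, hBc⟩ :=
    Cfsg.Agent.Helper24.exists_elementary_abelian_le_of_not_isCyclic (Op M p) hnc
  have hqp : q = p := by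
    have hB1 : Nat.card B ≠ 1 := by
      intro h
      rw [h] at hBc
      have := hq.two_le
      nlinarith
    have hBne : B ≠ ⊥ := fun h => hB1 (by rw [h]; exact Subgroup.card_bot)
    obtain ⟨⟨b, hbB⟩, hb1⟩ := (Subgroup.ne_bot_iff_exists_ne_one).mp hBne
    have hb1' : b ≠ 1 := fun h => hb1 (Subtype.ext h)
    haveI := Fact.mk hq
    have ho : orderOf b = q := orderOf_eq_prime (hBq b hbB) hb1'
    obtain ⟨k, hk⟩ := (Op_isPGroup M p) ⟨b, hBO hbB⟩
    have hk' : b ^ p ^ k = 1 := by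
      have := congrArg Subtype.val hk
      simpa using this
    have hdvd : q ∣ p ^ k := by rw [← ho]; exact orderOf_dvd_of_pow_eq_one hk'
    exact (Nat.prime_dvd_prime_iff_eq hq hp.out).mp (hq.dvd_of_dvd_pow hdvd)
  subst hqp
  have hBA : B ≤ A := fun x hx => (hΩ x (hOpT (hBO hx))).mp (hBq x hx)
  have hBA' : B = A := Subgroup.eq_of_le_of_card_ge hBA (by rw [hAc2]; exact hBc)
  have hAO : A ≤ Op M q := by rw [← hBA']; exact hBO
  have hdisj : Op M q ⊓ Cfsg.sigmaCore M = ⊥ := by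
    apply disjoint_iff.mp
    apply Subgroup.disjoint_of_coprime_natCard
    obtain ⟨k, hk⟩ := IsPGroup.iff_card.mp (Op_isPGroup M q)
    rw [hk]
    apply Nat.Coprime.pow_left
    rw [Nat.Prime.coprime_iff_not_dvd hp.out]
    intro hdvd
    exact hσ (Cfsg.Agent.Helper55.BGB.isPi_sigmaCore M q hp.out hdvd)
  have hcent : Cfsg.sigmaCore M ≤ centralizer (A : Set G) := by
    intro s hs
    rw [Subgroup.mem_centralizer_iff]
    intro a ha
    have haO : a ∈ Op M q := hAO ha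
    have hsM : s ∈ M := Cfsg.Agent.Helper55.BGB.sigmaCore_le M hs
    have haM : a ∈ M := Op_le M q haO
    have h1 : a * s * a⁻¹ * s⁻¹ ∈ Op M q ⊓ Cfsg.sigmaCore M := by
      refine Subgroup.mem_inf.mpr ⟨?_, ?_⟩
      · have h3 : s * a⁻¹ * s⁻¹ ∈ Op M q := by
          have hn := Op_norm M q hsM
          exact (Subgroup.mem_normalizer_iff.mp hn a⁻¹).mp (inv_mem haO)
        have h2 := mul_mem haO h3
        have h4 : a * s * a⁻¹ * s⁻¹ = a * (s * a⁻¹ * s⁻¹) := by group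
        rw [h4]; exact h2
      · have h3 : a * s * a⁻¹ ∈ Cfsg.sigmaCore M := by
          have hn := Cfsg.Agent.Helper55.BGB.le_normalizer_sigmaCore M haM
          exact (Subgroup.mem_normalizer_iff.mp hn s).mp hs
        exact mul_mem h3 (inv_mem hs)
    rw [hdisj, Subgroup.mem_bot] at h1
    have h3 : a * s * a⁻¹ * s⁻¹ * (s * a) = s * a := by rw [h1, one_mul]
    rw [← h3]; group
  have hbot : Cfsg.sigmaCore M = ⊥ := by
    rw [← hd]; exact (inf_eq_left.mpr hcent).symm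
  exact sigmaCore_ne_bot hG hU hM hHall hbot

/-- every prime divisor of `|O_{σ(M)'}(F(M))|` lies in `τ₂(M)`. -/
theorem mem_tau2_of_dvd (hG : IsMinSimpleOddOrder G) (hU : Cfsg.Agent.Helper34.BG.UniqHyp G)
    {M : Subgroup G} (hM : IsCoatom M) (p : ℕ) (hp : p.Prime)
    (hpd : p ∣ Nat.card ↥(Cfsg.piCoreOf {q | q.Prime ∧ q ∉ Cfsg.sigma M} (Cfsg.fittingOf M))) :
    p ∈ Cfsg.tau2 M := by
  haveI := Fact.mk hp
  have hσ : p ∉ Cfsg.sigma M := (Cfsg.Agent.Helper54.isPi_piCoreOf _ _ p hp hpd).2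
  obtain ⟨y, hy⟩ := exists_prime_orderOf_dvd_card'
    (G := ↥(Cfsg.piCoreOf {q | q.Prime ∧ q ∉ Cfsg.sigma M} (Cfsg.fittingOf M))) p hpd
  have hy1 : (y : G) ≠ 1 := by
    intro h
    have h0 : y = 1 := Subtype.ext h
    rw [h0, orderOf_one] at hy
    exact hp.one_lt.ne hy
  have hyp : (y : G) ^ (p ^ 1) = 1 := by
    rw [pow_one]
    have := pow_orderOf_eq_one y
    rw [hy] at this
    have h2 := congrArg Subtype.val this
    simpa using h2
  have hmem := mem_Op_of_mem_fittingOf M p (Cfsg.Agent.Helper54.piCoreOf_le _ _ y.2) hyp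
  apply mem_tau2_of_Op_ne_bot hG hU hM hσ
  intro h
  rw [h, Subgroup.mem_bot] at hmem
  exact hy1 hmem

/-- `O_{σ(M)'}(F(M))` is cyclic. -/
theorem isCyclic_piCoreOf (hG : IsMinSimpleOddOrder G) (hU : Cfsg.Agent.Helper34.BG.UniqHyp G)
    {M : Subgroup G} (hM : IsCoatom M)
    (hHall : Cfsg.IsPiHallOf (Cfsg.sigma M) (Cfsg.sigmaCore M) M) (h125 : H125 M) :
    IsCyclic ↥(Cfsg.piCoreOf {q | q.Prime ∧ q ∉ Cfsg.sigma M} (Cfsg.fittingOf M)) := by
  set Y : Subgroup G := Cfsg.piCoreOf {q | q.Prime ∧ q ∉ Cfsg.sigma M} (Cfsg.fittingOf M) with hY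
  have hYF : Y ≤ Cfsg.fittingOf M := Cfsg.Agent.Helper54.piCoreOf_le _ _
  haveI hnil : Group.IsNilpotent ↥Y := by
    haveI := isNilpotent_fittingOf M
    have h1 : Group.IsNilpotent ↥(Y.subgroupOf (Cfsg.fittingOf M)) := inferInstance
    exact (Group.isNilpotent_congr (Subgroup.subgroupOfEquivOfLe hYF)).mp h1
  haveI hZ : IsZGroup ↥Y := by
    refine ⟨fun p hp P => ?_⟩
    haveI := Fact.mk hp
    by_cases hpd : p ∣ Nat.card Y
    · have hσ : p ∉ Cfsg.sigma M := (Cfsg.Agent.Helper54.isPi_piCoreOf _ _ p hp hpd).2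
      have hle : (P : Subgroup ↥Y).map Y.subtype ≤ Op M p := by
        rintro _ ⟨y, hy, rfl⟩
        obtain ⟨k, hk⟩ := P.isPGroup' ⟨y, hy⟩
        apply mem_Op_of_mem_fittingOf M p (hYF y.2) (j := k)
        have := congrArg (fun t : ↥(P : Subgroup ↥Y) => ((t : ↥Y) : G)) hk
        simpa using this
      haveI hOc : IsCyclic ↥(Op M p) := by
        by_cases hne : Op M p = ⊥
        · rw [hne]; exact isCyclic_of_subsingleton
        · exact isCyclic_Op hG hU hM hHall h125 (mem_tau2_of_Op_ne_bot hG hU hM hσ hne)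
      haveI : IsCyclic ↥((P : Subgroup ↥Y).map Y.subtype) := Subgroup.isCyclic_of_le hle
      exact (MulEquiv.isCyclic
        ((P : Subgroup ↥Y).equivMapOfInjective Y.subtype Y.subtype_injective)).mpr inferInstance
    · have h1 : Nat.card ↥(P : Subgroup ↥Y) = 1 := by
        obtain ⟨k, hk⟩ := IsPGroup.iff_card.mp P.isPGroup'
        have hdvd : Nat.card ↥(P : Subgroup ↥Y) ∣ Nat.card ↥Y := Subgroup.card_subgroup_dvd_card _
        rcases Nat.eq_zero_or_pos k with rfl | hk0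
        · simpa using hk
        · exfalso
          apply hpd
          rw [hk] at hdvd
          exact (dvd_pow_self p hk0.ne').trans hdvd
      haveI : Subsingleton ↥(P : Subgroup ↥Y) := (Nat.card_eq_one_iff_unique.mp h1).1
      exact isCyclic_of_subsingleton
  infer_instance

/-- `F(M) = F(M_σ) O_{σ(M)'}(F(M))`. -/
theorem fittingOf_eq_sup {M : Subgroup G}
    (hHall : Cfsg.IsPiHallOf (Cfsg.sigma M) (Cfsg.sigmaCore M) M) :
    Cfsg.fittingOf M = Cfsg.fittingOf (Cfsg.sigmaCore M) ⊔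
      Cfsg.piCoreOf {q | q.Prime ∧ q ∉ Cfsg.sigma M} (Cfsg.fittingOf M) := by
  apply le_antisymm
  · refine (fittingOf_eq_iSup M).le.trans (iSup_le ?_)
    rintro ⟨p, hp⟩
    haveI := Fact.mk hp
    by_cases hσ : p ∈ Cfsg.sigma M
    · refine le_trans ?_ le_sup_left
      have h1 : Op M p ≤ Cfsg.sigmaCore M :=
        Cfsg.Agent.Helper55.BGB.le_sigmaCore_of_isPGroup hp hHall hσ (Op_le M p) (Op_isPGroup M p)
      exact le_fittingOf_of_normal le_rfl Subgroup.le_normalizer h1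
        ((Cfsg.Agent.Helper55.BGB.sigmaCore_le M).trans (Op_norm M p))
        (Op_isPGroup M p).isNilpotent
    · refine le_trans ?_ le_sup_right
      refine Cfsg.Agent.Helper54.le_piCoreOf_of_normalized _ (Cfsg.fittingOf M) (Op M p)
        (Op_le_fittingOf M p) ((Cfsg.Agent.Helper55.BGB.fittingOf_le M).trans (Op_norm M p)) ?_
      intro r hr hrd
      obtain ⟨k, hk⟩ := IsPGroup.iff_card.mp (Op_isPGroup M p)
      rw [hk] at hrd
      have hrp : r = p := (Nat.prime_dvd_prime_iff_eq hr hp).mp (hr.dvd_of_dvd_pow hrd)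
      rw [hrp]
      exact ⟨hp, hσ⟩
  · apply sup_le
    · exact le_fittingOf_of_normal (H := M) (X := Cfsg.sigmaCore M)
        (Cfsg.Agent.Helper55.BGB.sigmaCore_le M)
        (Cfsg.Agent.Helper55.BGB.le_normalizer_sigmaCore M)
        (Cfsg.Agent.Helper55.BGB.fittingOf_le (Cfsg.sigmaCore M))
        (Cfsg.Agent.Helper55.BGB.le_normalizer_fittingOf (Cfsg.sigmaCore M))
        (isNilpotent_fittingOf (Cfsg.sigmaCore M))
    · exact Cfsg.Agent.Helper54.piCoreOf_le _ _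

end fin

end Cfsg.Agent.Helper95.BG15.FitSigma
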